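import Mathlib
import Cfsg.Prelude.Def_Local
import Cfsg.Agent.Lib.Helper22.PComp
import Cfsg.Agent.Lib.Helper22.Conj
import Cfsg.Agent.Lib.Helper23.Transport
import Cfsg.Agent.Lib.Helper31.LBalanceCore
import Cfsg.Agent.Lib.Helper53.Basic
import Cfsg.Agent.Lib.Helper32.Tight

/-!
Sylow subgroups of subgroups, stated inside the ambient group (helper22), and the odd core
`coreOf 2 M` of a subgroup.
-/

set_option autoImplicit false

namespace Cfsg.Agent.Lib.Helper22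

open Cfsg
open scoped commutatorElement

universe u

section SylTools

variable {G : Type*} [Group G]

/-- `Q` is a Sylow `p`-subgroup of the subgroup `M`. -/
def IsSyl (p : ℕ) (Q M : Subgroup G) : Prop :=
  Q ≤ M ∧ IsPGroup p Q ∧ ¬ p ∣ Q.relIndex M

theorem IsSyl.exists_sylow {p : ℕ} [Fact p.Prime] {Q M : Subgroup G} (h : IsSyl p Q M) :
    ∃ P : Sylow p ↥M, (P : Subgroup ↥M) = Q.subgroupOf M :=
  ⟨(h.2.1.comap_subtype (K := M)).toSylow h.2.2, rfl⟩

theorem isSyl_map_subtype {p : ℕ} [Fact p.Prime] [Finite G] {M : Subgroup G} (P : Sylow p ↥M) :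
    IsSyl p ((P : Subgroup ↥M).map M.subtype) M := by
  refine ⟨Subgroup.map_subtype_le _, P.2.map _, ?_⟩
  have h1 : ((P : Subgroup ↥M).map M.subtype).subgroupOf M = (P : Subgroup ↥M) :=
    Subgroup.comap_map_eq_self_of_injective M.subtype_injective _
  show ¬ p ∣ (((P : Subgroup ↥M).map M.subtype).subgroupOf M).index
  rw [h1]
  exact P.not_dvd_index

theorem exists_isSyl_ge {p : ℕ} [Fact p.Prime] [Finite G] {A M : Subgroup G} (hAM : A ≤ M)
    (hA : IsPGroup p A) : ∃ B : Subgroup G, A ≤ B ∧ IsSyl p B M := by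
  obtain ⟨P, hP⟩ := (hA.comap_subtype (K := M)).exists_le_sylow
  refine ⟨(P : Subgroup ↥M).map M.subtype, ?_, isSyl_map_subtype P⟩
  intro a ha
  exact ⟨⟨a, hAM ha⟩, hP (Subgroup.mem_subgroupOf.mpr ha), rfl⟩

theorem IsSyl.exists_conj_le {p : ℕ} [Fact p.Prime] [Finite G] {A B M : Subgroup G}
    (hB : IsSyl p B M) (hAM : A ≤ M) (hA : IsPGroup p A) :
    ∃ n ∈ M, ∀ a ∈ A, n * a * n⁻¹ ∈ B := by
  obtain ⟨P, hP⟩ := hB.exists_sylow
  obtain ⟨n, hn⟩ := Cfsg.Agent.Lib.Helper53.exists_conj_le_sylow P (hA.comap_subtype (K := M))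
  refine ⟨n, n.2, fun a ha => ?_⟩
  have h1 := hn ⟨a, hAM ha⟩ (Subgroup.mem_subgroupOf.mpr ha)
  have h2 : n * ⟨a, hAM ha⟩ * n⁻¹ ∈ B.subgroupOf M := by
    rw [← hP]
    exact h1
  exact Subgroup.mem_subgroupOf.mp h2

theorem IsSyl.eq_of_le {p : ℕ} [Fact p.Prime] {Q Q' M : Subgroup G} (h : IsSyl p Q M)
    (hQQ' : Q ≤ Q') (hQ'M : Q' ≤ M) (hQ' : IsPGroup p Q') : Q' = Q := by
  obtain ⟨P, hP⟩ := h.exists_sylow
  have h1 : Q'.subgroupOf M = (P : Subgroup ↥M) := by
    apply P.is_maximal' (hQ'.comap_subtype (K := M))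
    rw [hP]
    intro x hx
    exact Subgroup.mem_subgroupOf.mpr (hQQ' (Subgroup.mem_subgroupOf.mp hx))
  rw [hP] at h1
  have h2 := congrArg (Subgroup.map M.subtype) h1
  rw [Subgroup.subgroupOf_map_subtype, Subgroup.subgroupOf_map_subtype, inf_of_le_left hQ'M,
    inf_of_le_left h.1] at h2
  exact h2

theorem IsSyl.inf_of_normal {p : ℕ} [Fact p.Prime] [Finite G] {Q K M : Subgroup G}
    (h : IsSyl p Q K) (hMK : M ≤ K) (hn : K ≤ Subgroup.normalizer (M : Set G)) :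
    IsSyl p (Q ⊓ M) M := by
  have hA : IsPGroup p (Q ⊓ M : Subgroup G) := h.2.1.to_le inf_le_left
  obtain ⟨S, hS1, hS⟩ := exists_isSyl_ge (inf_le_right : Q ⊓ M ≤ M) hA
  obtain ⟨k, hk, hkS⟩ := h.exists_conj_le (hS.1.trans hMK) hS.2.1
  have hle : S.map (MulAut.conj k).toMonoidHom ≤ Q ⊓ M := by
    rintro _ ⟨s, hs, rfl⟩
    refine ⟨hkS s hs, ?_⟩
    exact (Subgroup.mem_normalizer_iff.mp (hn hk) s).mp (hS.1 hs)
  have hcard : Nat.card S ≤ Nat.card (Q ⊓ M : Subgroup G) := by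
    rw [← card_map_conj' S k]
    exact Subgroup.card_le_of_le hle
  have heq : (Q ⊓ M : Subgroup G) = S := Subgroup.eq_of_le_of_card_ge hS1 hcard
  rw [heq]
  exact hS

theorem IsSyl.map {p : ℕ} [Fact p.Prime] [Finite G] {G' : Type*} [Group G'] (f : G →* G')
    {Q K : Subgroup G} (h : IsSyl p Q K) : IsSyl p (Q.map f) (K.map f) := by
  obtain ⟨P, hP⟩ := h.exists_sylow
  refine ⟨Subgroup.map_mono h.1, h.2.1.map f, ?_⟩
  have hsurj := f.subgroupMap_surjective K
  haveI : Finite ↥(K.map f) := Finite.of_surjective _ hsurj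
  have h1 : (Q.map f).subgroupOf (K.map f) = (P : Subgroup ↥K).map (f.subgroupMap K) := by
    ext y
    rw [Subgroup.mem_subgroupOf, hP]
    constructor
    · rintro ⟨q, hq, hqy⟩
      exact ⟨⟨q, h.1 hq⟩, Subgroup.mem_subgroupOf.mpr hq, Subtype.ext hqy⟩
    · rintro ⟨x, hx, rfl⟩
      exact ⟨x, Subgroup.mem_subgroupOf.mp hx, rfl⟩
  show ¬ p ∣ ((Q.map f).subgroupOf (K.map f)).index
  rw [h1]
  exact (P.mapSurjective hsurj).not_dvd_index

theorem IsSyl.subgroupOf {p : ℕ} {Q K T : Subgroup G} (h : IsSyl p Q K) (hKT : K ≤ T) :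
    IsSyl p (Q.subgroupOf T) (K.subgroupOf T) := by
  refine ⟨?_, h.2.1.comap_subtype, ?_⟩
  · intro x hx
    exact Subgroup.mem_subgroupOf.mpr (h.1 (Subgroup.mem_subgroupOf.mp hx))
  · rw [Subgroup.relIndex_subgroupOf hKT]
    exact h.2.2

/-- A group whose Sylow `p`-subgroup is trivial has order prime to `p`. -/
theorem IsSyl.card_coprime_of_eq_bot {p : ℕ} [Fact p.Prime] [Finite G] {Q M : Subgroup G}
    (h : IsSyl p Q M) (hQ : Q = ⊥) : (Nat.card M).Coprime p := by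
  have hp : p.Prime := Fact.out
  have h1 : Q.relIndex M = Nat.card M := by
    rw [hQ, Subgroup.relIndex_bot_left]
  rw [Nat.coprime_comm, Nat.Prime.coprime_iff_not_dvd hp, ← h1]
  exact h.2.2

end SylTools

section CoreOf

variable {G : Type u} [Group G] [Finite G]

theorem coreOf_coprime' (p : ℕ) (M : Subgroup G) :
    (Nat.card (Cfsg.Agent.Lib.Helper23.coreOf p M)).Coprime p := by
  unfold Cfsg.Agent.Lib.Helper23.coreOf
  rw [Subgroup.card_map_of_injective (Subgroup.subtype_injective _)]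
  exact card_pPrimeCore_coprime p _

theorem coreOf_normalizer_le (p : ℕ) (M : Subgroup G) :
    Subgroup.normalizer (M : Set G) ≤
      Subgroup.normalizer (Cfsg.Agent.Lib.Helper23.coreOf p M : Set G) := by
  apply le_normalizer_of_conj_mem
  intro n hn x hx
  exact Cfsg.Agent.Lib.Helper31.conj_mem_ppc p hn hx

omit [Finite G] in
/-- Maximality of the `p'`-core of a subgroup. -/
theorem le_coreOf (p : ℕ) {W M : Subgroup G} (hWM : W ≤ M)
    (hn : M ≤ Subgroup.normalizer (W : Set G)) (hc : (Nat.card W).Coprime p) :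
    W ≤ Cfsg.Agent.Lib.Helper23.coreOf p M := by
  have hnorm : (W.subgroupOf M).Normal :=
    (Subgroup.normal_subgroupOf_iff_le_normalizer hWM).mpr hn
  have hcard : (Nat.card (W.subgroupOf M)).Coprime p := by
    rw [Nat.card_congr (Subgroup.subgroupOfEquivOfLe hWM).toEquiv]
    exact hc
  have hle := le_pPrimeCore_of_normal p hnorm hcard
  intro w hw
  exact ⟨⟨w, hWM hw⟩, hle (Subgroup.mem_subgroupOf.mpr hw), rfl⟩

theorem coreOf_mono_of_normal (p : ℕ) {M K : Subgroup G} (hMK : M ≤ K)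
    (hn : K ≤ Subgroup.normalizer (M : Set G)) :
    Cfsg.Agent.Lib.Helper23.coreOf p M ≤ Cfsg.Agent.Lib.Helper23.coreOf p K :=
  le_coreOf p ((Cfsg.Agent.Lib.Helper23.coreOf_le p M).trans hMK)
    (hn.trans (coreOf_normalizer_le p M)) (coreOf_coprime' p M)

end CoreOf

end Cfsg.Agent.Lib.Helper22
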