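import Mathlib
import Cfsg.Agent.Lib.Helper22.SylTools

/-!
A light version of Alperin's fusion theorem (helper22): if an element `u` of a Sylow `p`-subgroup
`P` is centralized by the normalizer of every subgroup of `P` containing `u`, then `u` is
isolated in `P` (its only conjugate in `P` is `u` itself).
-/

set_option autoImplicit false

namespace Cfsg.Agent.Lib.Helper22

section Isolated

variable {G : Type*} [Group G] [Finite G] {p : ℕ} [Fact p.Prime]

omit [Finite G] [Fact (Nat.Prime p)] in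
theorem mem_smul_sylow_iff' (c : G) (P : Sylow p G) (x : G) :
    x ∈ (c • P : Sylow p G) ↔ c⁻¹ * x * c ∈ P := by
  have h1 : x ∈ (c • P : Sylow p G) ↔ x ∈ ((c • P : Sylow p G) : Subgroup G) := Iff.rfl
  rw [h1, Sylow.coe_subgroup_smul, Subgroup.mem_pointwise_smul_iff_inv_smul_mem]
  have h2 : (MulAut.conj c)⁻¹ • x = c⁻¹ * x * c := by
    rw [MulAut.smul_def, MulAut.conj_inv_apply]
  rw [h2]
  rfl

theorem card_lt_of_lt' {H K : Subgroup G} (h : H < K) : Nat.card H < Nat.card K := by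
  apply lt_of_not_ge
  intro hge
  exact h.ne (Subgroup.eq_of_le_of_card_ge h.le hge)

theorem sylow_card_eq' (P P' : Sylow p G) :
    Nat.card (P' : Subgroup G) = Nat.card (P : Subgroup G) := by
  rw [Sylow.card_eq_multiplicity, Sylow.card_eq_multiplicity]

theorem isolated_aux (P : Sylow p G) (u : G)
    (hloc : ∀ E : Subgroup G, E ≤ (P : Subgroup G) → u ∈ E →
      ∀ n ∈ Subgroup.normalizer (E : Set G), n * u * n⁻¹ = u) :
    ∀ (m : ℕ) (P' P'' : Sylow p G), (∃ a : G, a * u * a⁻¹ = u ∧ P' = a • P) → u ∈ P' →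
      u ∈ P'' →
      Nat.card (P : Subgroup G) - Nat.card ((P' : Subgroup G) ⊓ (P'' : Subgroup G) : Subgroup G)
        ≤ m →
      ∃ c : G, c * u * c⁻¹ = u ∧ P'' = c • P := by
  classical
  -- the local hypothesis for the conjugates of `P` by elements centralizing `u`
  have hloc' : ∀ a : G, a * u * a⁻¹ = u → ∀ E : Subgroup G, E ≤ ((a • P : Sylow p G) : Subgroup G) →
      u ∈ E → ∀ n ∈ Subgroup.normalizer (E : Set G), n * u * n⁻¹ = u := by
    intro a ha E hE huE n hn
    have ha' : a⁻¹ * u * a = u := by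
      calc a⁻¹ * u * a = a⁻¹ * (a * u * a⁻¹) * a := by rw [ha]
        _ = u := by group
    have h1 : E.map (MulAut.conj a⁻¹).toMonoidHom ≤ (P : Subgroup G) := by
      rintro _ ⟨e, he, rfl⟩
      have h2 := (mem_smul_sylow_iff' a P e).mp (hE he)
      show a⁻¹ * e * a⁻¹⁻¹ ∈ (P : Subgroup G)
      rw [inv_inv]
      exact h2
    have h2 : u ∈ E.map (MulAut.conj a⁻¹).toMonoidHom := by
      refine ⟨u, huE, ?_⟩
      show a⁻¹ * u * a⁻¹⁻¹ = u
      rw [inv_inv]
      exact ha'
    have h3 : a⁻¹ * n * a ∈ Subgroup.normalizer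
        ((E.map (MulAut.conj a⁻¹).toMonoidHom : Subgroup G) : Set G) := by
      apply le_normalizer_of_conj_mem (S := Subgroup.zpowers (a⁻¹ * n * a)) ?_
        (Subgroup.mem_zpowers _)
      intro g hg x hx
      obtain ⟨k, rfl⟩ := Subgroup.mem_zpowers_iff.mp hg
      obtain ⟨e, he, rfl⟩ := hx
      have hnk : n ^ k ∈ Subgroup.normalizer (E : Set G) := Subgroup.zpow_mem _ hn k
      refine ⟨n ^ k * e * (n ^ k)⁻¹, (Subgroup.mem_normalizer_iff.mp hnk e).mp he, ?_⟩
      show a⁻¹ * (n ^ k * e * (n ^ k)⁻¹) * a⁻¹⁻¹ = (a⁻¹ * n * a) ^ k * (a⁻¹ * e * a⁻¹⁻¹) *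
        ((a⁻¹ * n * a) ^ k)⁻¹
      have h4 : (a⁻¹ * n * a) ^ k = a⁻¹ * n ^ k * a := by
        have := (MulAut.conj a⁻¹).toMonoidHom.map_zpow n k
        simp only [MulEquiv.toMonoidHom_eq_coe, MonoidHom.coe_coe, MulAut.conj_apply,
          inv_inv] at this
        exact this.symm
      rw [h4]
      group
    have h5 := hloc _ h1 h2 _ h3
    calc n * u * n⁻¹ = n * (a * u * a⁻¹) * n⁻¹ := by rw [ha]
      _ = a * ((a⁻¹ * n * a) * u * (a⁻¹ * n * a)⁻¹) * a⁻¹ := by group
      _ = a * u * a⁻¹ := by rw [h5]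
      _ = u := ha
  have hEq : ∀ P' P'' : Sylow p G, (∃ a : G, a * u * a⁻¹ = u ∧ P' = a • P) →
      (P' : Subgroup G) ≤ (P'' : Subgroup G) → ∃ c : G, c * u * c⁻¹ = u ∧ P'' = c • P := by
    rintro P' P'' ⟨a, ha, hP'⟩ hle
    have h1 : (P'' : Subgroup G) = (P' : Subgroup G) := P'.is_maximal' P''.2 hle
    exact ⟨a, ha, by rw [← hP']; exact Sylow.ext h1⟩
  intro m
  induction m with
  | zero =>
    intro P' P'' hg huP' hu'' hm
    by_cases hle : (P' : Subgroup G) ≤ (P'' : Subgroup G)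
    · exact hEq P' P'' hg hle
    · exfalso
      have h1 : ((P' : Subgroup G) ⊓ (P'' : Subgroup G) : Subgroup G) < (P' : Subgroup G) :=
        lt_of_le_of_ne inf_le_left (fun h => hle (h ▸ inf_le_right))
      have h2 := card_lt_of_lt' h1
      rw [sylow_card_eq' P P'] at h2
      omega
  | succ m ih =>
    intro P' P'' hg huP' hu'' hm
    by_cases hle : (P' : Subgroup G) ≤ (P'' : Subgroup G)
    · exact hEq P' P'' hg hle
    · obtain ⟨a, ha, hP'a⟩ := hg
      obtain ⟨E, hEdef⟩ : ∃ E : Subgroup G, E = (P' : Subgroup G) ⊓ (P'' : Subgroup G) :=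
        ⟨_, rfl⟩
      rw [← hEdef] at hm
      have hEP' : E < (P' : Subgroup G) := by
        rw [hEdef]
        exact lt_of_le_of_ne inf_le_left (fun h => hle (h ▸ inf_le_right))
      have hEP'' : E < (P'' : Subgroup G) := by
        rw [hEdef]
        refine lt_of_le_of_ne inf_le_right (fun h => hle ?_)
        have h1 : (P'' : Subgroup G) ≤ (P' : Subgroup G) := h ▸ inf_le_left
        have h2 : (P' : Subgroup G) = (P'' : Subgroup G) := P''.is_maximal' P'.2 h1
        exact h2.le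
      have huE : u ∈ E := by
        rw [hEdef]
        exact ⟨huP', hu''⟩
      obtain ⟨x', hx'P, hx'E, hx'N⟩ :=
        Cfsg.Agent.Lib.Helper53.exists_mem_normalizer_not_mem P'.2 hEP'
      obtain ⟨x'', hx''P, hx''E, hx''N⟩ :=
        Cfsg.Agent.Lib.Helper53.exists_mem_normalizer_not_mem P''.2 hEP''
      obtain ⟨NE, hNEdef⟩ : ∃ NE : Subgroup G, NE = Subgroup.normalizer (E : Set G) := ⟨_, rfl⟩
      rw [← hNEdef] at hx'N hx''N
      have hENE : E ≤ NE := hNEdef ▸ Subgroup.le_normalizer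
      obtain ⟨S, hA'S, hS⟩ := exists_isSyl_ge
        (inf_le_right : (P' : Subgroup G) ⊓ NE ≤ NE) (P'.2.to_le inf_le_left)
      obtain ⟨n, hnN, hn⟩ := hS.exists_conj_le
        (inf_le_right : (P'' : Subgroup G) ⊓ NE ≤ NE) (P''.2.to_le inf_le_left)
      obtain ⟨P₃, hP₃⟩ := hS.2.1.exists_le_sylow
      have hcard' : Nat.card (P' : Subgroup G) = Nat.card (P : Subgroup G) := sylow_card_eq' P P'
      have hcard₃ : Nat.card (P₃ : Subgroup G) = Nat.card (P : Subgroup G) := sylow_card_eq' P P₃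
      -- `P₃` is good
      have huP₃ : u ∈ P₃ := hP₃ (hA'S ⟨hEP'.le huE, hENE huE⟩)
      have hlt₁ : Nat.card E < Nat.card ((P' : Subgroup G) ⊓ (P₃ : Subgroup G) : Subgroup G) := by
        have h1 : E < (P' : Subgroup G) ⊓ (P₃ : Subgroup G) := by
          refine lt_of_le_of_ne (le_inf hEP'.le (fun e he => hP₃ (hA'S ⟨hEP'.le he, hENE he⟩))) ?_
          intro h
          apply hx'E
          rw [h]
          exact ⟨hx'P, hP₃ (hA'S ⟨hx'P, hx'N⟩)⟩
        exact card_lt_of_lt' h1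
      have hle₁ : Nat.card ((P' : Subgroup G) ⊓ (P₃ : Subgroup G) : Subgroup G) ≤
          Nat.card (P : Subgroup G) := by
        rw [← hcard']
        exact Subgroup.card_le_of_le inf_le_left
      obtain ⟨c₃, hc₃, hP₃c⟩ := ih P' P₃ ⟨a, ha, hP'a⟩ huP' huP₃ (by omega)
      -- `n` centralizes `u`
      have hnu : n * u * n⁻¹ = u := by
        apply hloc' a ha E ?_ huE n (hNEdef ▸ hnN)
        rw [← hP'a]
        exact hEP'.le
      have hnu' : n⁻¹ * u * n = u := by
        calc n⁻¹ * u * n = n⁻¹ * (n * u * n⁻¹) * n := by rw [hnu]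
          _ = u := by group
      -- `P₄ = n • P''`
      have hu₄ : u ∈ (n • P'' : Sylow p G) := by
        rw [mem_smul_sylow_iff', hnu']
        exact hu''
      have hlt₂ : Nat.card E <
          Nat.card ((P₃ : Subgroup G) ⊓ ((n • P'' : Sylow p G) : Subgroup G) : Subgroup G) := by
        have h1 : (((P'' : Subgroup G) ⊓ NE).map (MulAut.conj n).toMonoidHom) ≤
            (P₃ : Subgroup G) ⊓ ((n • P'' : Sylow p G) : Subgroup G) := by
          rintro _ ⟨y, hy, rfl⟩
          refine ⟨hP₃ (hn y hy), ?_⟩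
          show n * y * n⁻¹ ∈ (n • P'' : Sylow p G)
          rw [mem_smul_sylow_iff']
          have h2 : n⁻¹ * (n * y * n⁻¹) * n = y := by group
          rw [h2]
          exact hy.1
        have h2 : E < (P'' : Subgroup G) ⊓ NE := by
          refine lt_of_le_of_ne (le_inf hEP''.le hENE) ?_
          intro h
          apply hx''E
          rw [h]
          exact ⟨hx''P, hx''N⟩
        have h3 := card_lt_of_lt' h2
        have h4 := Subgroup.card_le_of_le h1
        rw [card_map_conj'] at h4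
        omega
      have hle₂ : Nat.card ((P₃ : Subgroup G) ⊓ ((n • P'' : Sylow p G) : Subgroup G) :
          Subgroup G) ≤ Nat.card (P : Subgroup G) := by
        rw [← hcard₃]
        exact Subgroup.card_le_of_le inf_le_left
      obtain ⟨c₄, hc₄, hP₄c⟩ := ih P₃ (n • P'') ⟨c₃, hc₃, hP₃c⟩ huP₃ hu₄ (by omega)
      refine ⟨n⁻¹ * c₄, ?_, ?_⟩
      · calc n⁻¹ * c₄ * u * (n⁻¹ * c₄)⁻¹ = n⁻¹ * (c₄ * u * c₄⁻¹) * n := by group
          _ = n⁻¹ * u * n := by rw [hc₄]
          _ = u := hnu'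
      · rw [mul_smul, ← hP₄c, inv_smul_smul]

/-- **Alperin-type isolation criterion.** If `u` lies in the Sylow `p`-subgroup `P` and the
normalizer of every subgroup of `P` containing `u` centralizes `u`, then `u` is the only
conjugate of `u` in `P`. -/
theorem isolated_of_local (P : Sylow p G) (u : G) (huP : u ∈ P)
    (hloc : ∀ E : Subgroup G, E ≤ (P : Subgroup G) → u ∈ E →
      ∀ n ∈ Subgroup.normalizer (E : Set G), n * u * n⁻¹ = u) :
    ∀ g : G, g * u * g⁻¹ ∈ P → g * u * g⁻¹ = u := by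
  intro g hg
  have hu'' : u ∈ (g⁻¹ • P : Sylow p G) := by
    rw [mem_smul_sylow_iff', inv_inv]
    exact hg
  obtain ⟨c, hc, hPc⟩ := isolated_aux P u hloc _ P (g⁻¹ • P)
    ⟨1, by simp, by simp⟩ huP hu'' le_rfl
  have h1 : (g * c) • P = P := by
    rw [mul_smul, ← hPc, smul_inv_smul]
  have h2 : g * c ∈ Subgroup.normalizer ((P : Subgroup G) : Set G) :=
    Sylow.smul_eq_iff_mem_normalizer.mp h1
  have h3 := hloc P le_rfl huP (g * c) h2
  calc g * u * g⁻¹ = g * (c * u * c⁻¹) * g⁻¹ := by rw [hc]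
    _ = (g * c) * u * (g * c)⁻¹ := by group
    _ = u := h3

end Isolated

end Cfsg.Agent.Lib.Helper22
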